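import Cfsg.Agent.Lib.Helper36.ChevWeyl

/-! Generated file: reflection tables for type E6. -/

set_option autoImplicit false

namespace Cfsg.Agent.Lib.Helper36

open Cfsg.Lie

def wtabE6 : WTab where
  simT := 0x4825138a85c38
  reflT := 0x239188a432210880411f0fc7a3b1e0e872381b8d46c331a0c86031178b8582d158a85029138944c231208444200f07c3a1c0d06c32180b05c2a130a0442410078381a0b0602810090301c0a030200802002391888452190484401f8f47c3c1d0ec72381b0dc6a34190cc622f180b85a2b160a8522714090442610894461f100783a1b0e06832170c058281509848201107838180d058241408038140c040100c0200239148c44219087e3e209007a3c1d8e474381b8d066361a8c86230170bc5a2c150ac4c25100a450241187c3c2711084381d0d86830190b8582a12088502610078341c0c058280e06048200a040180404002391884412011488431f8f87a3c1d8e870391b8d86a31180bc6833190b85228138745a2c158984a2411888421c0d86854200f87832150a04c30170b04822100703c1a0c0582812080200c04070301402002311c8a442190882401e0ec743f1f0f472381b8d86a2d160ac5228138646833190a86230178984a241188842180b8583a150a04c5c200f878381b0d048221007838140904034180b038180a04018080001239188a44218dc6c351a0cc642d160ac540f21104803f1f0f46230178b8783b1d0e45228138984a241188842200f8781c0d0602c32180b85814090401c0c051c074381b0d0542813090442004018080200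
  etaT := 0x129052225a444a0948244889113c8891122443046088e7110620c238021c0781e038401c80e01c4381c23807010001fc3c003c3f8000

end Cfsg.Agent.Lib.Helper36
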