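import Cfsg.Agent.Lib.Helper36.ChevWeyl

/-! Generated file: reflection tables for type F4. -/

set_option autoImplicit false

namespace Cfsg.Agent.Lib.Helper36

open Cfsg.Lie

def wtabF4 : WTab where
  simT := 0xc0643621
  reflT := 0x170bc5a2c158a45428138944c231208842200f07c381d0d86434170c0542c140904c2011078381a0b060241408038140c04018080001178b45c2c150ac52281309c4a241108c421f100783a1b0e0602c1a0a8642e130a048220f08038180d058281009038180805018040400178b8562c168a852271409046261288444200d0643a1c0a07c3c180b844201b098482c15078341c0a048301607040180a02018100200178b85a281007c3c2c138984a1d0e06c1c2b150a448231106832180b8582a0d0602c0c0502084281309028120801844200f038080200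
  etaT := 0x8450a5a50a21488913c891121164fe7f26881ee3f81fc778

end Cfsg.Agent.Lib.Helper36
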