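import Cfsg.Prelude.Def_ChevD4
import Cfsg.Agent.Lib.Helper36.ChevAgree

/-! Packed tables of type D4 (generated from the official tables) and their agreement check. -/

set_option autoImplicit false

namespace Cfsg.Agent.Lib.Helper36

open Cfsg.Lie

def fastD4 : Fast where
  l := 4
  n := 24
  dim := 28
  w := 12
  mask := 4095
  rw := 336
  rmask := 0xffffffffffffffffffffffffffffffffffffffffffffffffffffffffffffffffffffffffffffffffffff
  negT := 0x40403020140c0704024140b060341c0f0804424130a0542c17
  corT := 0x224222220222202200220002222002202020002002002000300003000030303003303330000300333033033333333353
  colT := 0x61741641561400041261161040f20000000000300000000000000000000000000000061800000061661500000000061341200040e40d20040a00300300200300000000000000000000000041800000061700061400000061300041140e00020040c60900200300000300000000000000000000041800000061700061400000061300000041040d20000040b60800300200000300000000000000000061800000000061661500000061300000000040f20040c40b00040700200200300300000000000000000061761661561400000000000000000000000020040a40940840700000000000200500000000000041841700000000000000000061161000040e40d20000000000000060660500300300000200000000061800041600000000000000061200060f40e00020040c00000000060600040400200300300200000061800000041500000000000061200060f00040d20000040b00000060600000040300300200300200041800000000041400000000000061161000000020040c40b0000006060000000006020020020050020000000004174160000000004124110000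0000020000000060a60900000000060560400000000500200000000041700041500000041200041000000020000000060a00060800000060500060300000500000200000041600041400000041100040f00000020000000060900060700000060400060200000000400000300000041541400000000041040f00000020000000000060860700000000060360200000000000000400300041700000000041300000060e60d20000000040940800000000000060500000000060100000300300400361600000041300000060e00020060c00040a00040700000000000060400000040100000000200300200361500041300000000060d20000060b40a00040700000000000000060300040100000000000300200200341441300000000000020060c60b00040940800000000000000000060260100000000000000200200000300061261161060f20000000000000000000000000040540440340200000000000000000000000000300461200060e60d20060a00000000040600000040440300000000040100000000000000000000300300200241160e00020060c60900000040600000040500040200000060100000000000000000000000200300000241060d20000060b60800040600000040500040200000060100000000000000000000000000300200000260f20060c60b00060740600000000040440300000040100000000000000000000000000000200200300220060a409408607000405604603402000000000000000000000000000000000000000000000000002000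

theorem agreeD4_0 : allN (fun i => agreeRow chevD4 fastD4 (Nat.add (Nat.mul 0 24) i)) 24 = true := by decide +kernel

theorem agreeD4 : Agree chevD4 fastD4 := by
  apply agree_of_rows _ _ rfl rfl
  apply of_chunks (agreeRow chevD4 fastD4) 24 1
  intro k hk
  interval_cases k
  · exact agreeD4_0

end Cfsg.Agent.Lib.Helper36
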