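import Cfsg.Prelude.Def_ChevG2
import Cfsg.Agent.Lib.Helper36.ChevAgree

/-! Packed tables of type G2 (generated from the official tables) and their agreement check. -/

set_option autoImplicit false

namespace Cfsg.Agent.Lib.Helper36

open Cfsg.Lie

def fastG2 : Fast where
  l := 2
  n := 12
  dim := 14
  w := 36
  mask := 68719476735
  rw := 504
  rmask := 0xffffffffffffffffffffffffffffffffffffffffffffffffffffffffffffffffffffffffffffffffffffffffffffffffffffffffffffffffffffffffffffff
  negT := 0x40403020140c0704024140b
  corT := 0x422264620220300373753353
  colT := 0x60b00000000000000060a00000040900000040700000020000000000300000000000000000000000000000000000000000000000000000000000060c00000000000000060a000000000000000408000000200000000406000000002000000007000000000000000000000000000000000e0c000000e0b000000000000000000000e0c809000c0ba0800000020060c40940540b608404000000000000000003000000000000000000000000c0c000000000000c0c80a00000000060c60a608000000c07000000200000e07a05000000000407405603000000003000000002000000000000000000000000c0b000e0ba0a00000000040b40a609000000000000000200000000c06000c0680460660460300000000000000000200000000500000000000000040c00000000000000000000000040900000000000000020000000000000000060500000000000000000000000060200000000500000000600000040b00000000000000000000000040800000000000000020000000000000000060400000000000000000000000060100000000000000000400000000700000000040760940a000c07a09000000e07000000200000000000602403404000000000000e02803000000e0200000000000000000000000000300000000460640840a000000000000e06808000000200000000e06401603405000000000000c01a03000000000000000e01000000000000000000000000002000000003602605609401404608000000200000c02805000e01a04000000000000000000000000c02000000c01000000000000000000000000000000000000000000002000000607000000200000000605000000000000000403000000000000000401000000000000000000000000000000000000000000000000000003000000006000000200000000606000000604000000403000000000000000402000000000000000000000000000000000000000000000000000000000000002000000000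

theorem agreeG2_0 : allN (fun i => agreeRow chevG2 fastG2 (Nat.add (Nat.mul 0 12) i)) 12 = true := by decide +kernel

theorem agreeG2 : Agree chevG2 fastG2 := by
  apply agree_of_rows _ _ rfl rfl
  apply of_chunks (agreeRow chevG2 fastG2) 12 1
  intro k hk
  interval_cases k
  · exact agreeG2_0

end Cfsg.Agent.Lib.Helper36
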