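import Mathlib

set_option autoImplicit false

namespace Cfsg.Agent.Lib.Helper36

open Module

universe u v

/-- An alternating bilinear form on a finite-dimensional space has even rank
(`dim V = dim (radical) + 2k`); auxiliary version for the induction. -/
theorem alt_form_even_aux {K : Type v} [Field K] (n : ℕ) :
    ∀ (V : Type u) [AddCommGroup V] [Module K V] [FiniteDimensional K V] (B : V →ₗ[K] V →ₗ[K] K),
      (∀ x, B x x = 0) → finrank K V = n →
        ∃ k, finrank K V = finrank K (LinearMap.ker B) + 2 * k := by
  induction n using Nat.strong_induction_on with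
  | _ n ih =>
    intro V _ _ _ B hB hn
    have hskew : ∀ x y, B x y = - B y x := by
      intro x y
      have h := hB (x + y)
      simp only [map_add, LinearMap.add_apply, hB, zero_add, add_zero] at h
      exact eq_neg_of_add_eq_zero_right h
    by_cases h0 : B = 0
    · refine ⟨0, ?_⟩
      rw [h0, LinearMap.ker_zero, finrank_top]; simp
    · obtain ⟨a, b, hab⟩ : ∃ a b, B a b ≠ 0 := by
        by_contra hcon
        apply h0
        refine LinearMap.ext fun a => LinearMap.ext fun b => ?_
        by_contra hne
        exact hcon ⟨a, b, hne⟩
      have hba : B b a ≠ 0 := by rw [hskew]; exact neg_ne_zero.mpr hab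
      set π : V →ₗ[K] K × K := (B a).prod (B b) with hπ
      set W : Submodule K V := LinearMap.ker π with hW
      have hmemW : ∀ x, x ∈ W ↔ B a x = 0 ∧ B b x = 0 := by
        intro x
        rw [hW, LinearMap.mem_ker, hπ, LinearMap.prod_apply]
        exact Prod.mk_eq_zero
      have hsurj : LinearMap.range π = ⊤ := by
        rw [LinearMap.range_eq_top]
        rintro ⟨c, d⟩
        refine ⟨(d / B b a) • a + (c / B a b) • b, ?_⟩
        rw [hπ, LinearMap.prod_apply]
        show (B a _, B b _) = (c, d)
        simp only [map_add, map_smul, hB, smul_eq_mul, mul_zero, zero_add, add_zero]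
        rw [div_mul_cancel₀ _ hab, div_mul_cancel₀ _ hba]
      have hdim : finrank K W + 2 = finrank K V := by
        have h := LinearMap.finrank_range_add_finrank_ker π
        rw [hsurj, finrank_top, finrank_prod, finrank_self, ← hW] at h
        omega
      set B' : W →ₗ[K] W →ₗ[K] K := B.domRestrict₁₂ W W with hB'
      have hB'app : ∀ x y : W, B' x y = B x y := fun x y => rfl
      obtain ⟨k, hk⟩ := ih (finrank K W) (by omega) W B' (fun x => hB _) rfl
      have hker : (LinearMap.ker B').map W.subtype = LinearMap.ker B := by
        ext x
        constructor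
        · rintro ⟨w, hw, rfl⟩
          have hw' : ∀ y : W, B w y = 0 := fun y => by
            have := LinearMap.congr_fun (LinearMap.mem_ker.mp hw) y
            rw [hB'app] at this
            simpa using this
          rw [LinearMap.mem_ker]
          ext y
          have hwW := (hmemW w).mp w.2
          set y' : V := y - (B b y / B b a) • a - (B a y / B a b) • b with hy'
          have hy'W : y' ∈ W := by
            rw [hmemW]
            constructor
            · simp only [hy', map_sub, map_smul, hB, smul_eq_mul, mul_zero, sub_zero]
              rw [div_mul_cancel₀ _ hab, sub_self]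
            · simp only [hy', map_sub, map_smul, hB, smul_eq_mul, mul_zero, sub_zero]
              rw [div_mul_cancel₀ _ hba, sub_self]
          have hy : y = y' + (B b y / B b a) • a + (B a y / B a b) • b := by
            rw [hy']; abel
          have h1 : B w a = 0 := by rw [hskew, hwW.1, neg_zero]
          have h2 : B w b = 0 := by rw [hskew, hwW.2, neg_zero]
          have h3 : B w y' = 0 := hw' ⟨y', hy'W⟩
          show B (W.subtype w) y = 0
          rw [Submodule.subtype_apply, hy]
          simp only [map_add, map_smul, h1, h2, h3, smul_eq_mul, mul_zero, add_zero]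
        · intro hx
          have hx' : ∀ y, B x y = 0 := fun y => by
            have := LinearMap.congr_fun (LinearMap.mem_ker.mp hx) y
            simpa using this
          have hxW : x ∈ W := by
            rw [hmemW]
            exact ⟨by rw [hskew, hx', neg_zero], by rw [hskew, hx', neg_zero]⟩
          refine ⟨⟨x, hxW⟩, ?_, rfl⟩
          rw [SetLike.mem_coe, LinearMap.mem_ker]
          ext y
          exact hx' y
      have hfk : finrank K (LinearMap.ker B') = finrank K (LinearMap.ker B) := by
        rw [← hker]
        exact (LinearEquiv.finrank_eq (Submodule.equivMapOfInjective W.subtype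
          (Submodule.injective_subtype W) (LinearMap.ker B')))
      refine ⟨k + 1, ?_⟩
      omega

/-- An alternating bilinear form on a finite-dimensional space: `dim V = dim (radical) + 2k`. -/
theorem alt_form_even {K : Type v} [Field K] {V : Type u} [AddCommGroup V] [Module K V]
    [FiniteDimensional K V] (B : V →ₗ[K] V →ₗ[K] K) (hB : ∀ x, B x x = 0) :
    ∃ k, finrank K V = finrank K (LinearMap.ker B) + 2 * k :=
  alt_form_even_aux _ V B hB rfl

/-- A square matrix `M` over a field with `vᵀ M v = 0` for all `v` has even rank. -/
theorem even_rank_of_alt_matrix {K : Type v} [Field K] {ι : Type u} [Fintype ι] [DecidableEq ι]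
    (M : Matrix ι ι K) (h : ∀ w : ι → K, w ⬝ᵥ (M.mulVec w) = 0) : Even M.rank := by
  set B : (ι → K) →ₗ[K] (ι → K) →ₗ[K] K := Matrix.toLinearMap₂' K M with hBdef
  have hBapp : ∀ x y, B x y = x ⬝ᵥ (M.mulVec y) := fun x y => Matrix.toLinearMap₂'_apply' M x y
  obtain ⟨k, hk⟩ := alt_form_even B (fun x => by rw [hBapp]; exact h x)
  have hker : LinearMap.ker B = LinearMap.ker (M.transpose.mulVecLin) := by
    ext x
    rw [LinearMap.mem_ker, LinearMap.mem_ker, Matrix.mulVecLin_apply, Matrix.mulVec_transpose]
    constructor
    · intro hx
      funext j
      have := LinearMap.congr_fun hx (Pi.single j 1)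
      rw [hBapp, Matrix.dotProduct_mulVec, dotProduct_single_one] at this
      simpa using this
    · intro hx
      refine LinearMap.ext fun y => ?_
      rw [hBapp, Matrix.dotProduct_mulVec, hx]
      simp
  have hrk := LinearMap.finrank_range_add_finrank_ker (M.transpose.mulVecLin)
  rw [← hker] at hrk
  have : M.rank = 2 * k := by
    rw [← Matrix.rank_transpose]
    unfold Matrix.rank
    omega
  rw [this]
  exact even_two_mul k

end Cfsg.Agent.Lib.Helper36
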