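import Cfsg.Agent.Lib.Helper36.ChevPoinT
import Cfsg.Agent.Lib.Helper18.ChevTabData

/-!
# The Poincaré series of the Weyl group of type D4 (generated tables)
-/

set_option autoImplicit false
set_option maxRecDepth 100000

namespace Cfsg.Agent.Lib.Helper36

open Cfsg.Lie Cfsg.Agent.Lib.Helper18 Finset

def pstepD4_0 : PStep where
  m := 24
  K := 15
  J := 13
  β := 23
  X := 0x908070612040302010d0c0b0a161514130511100f0e17010e0b0a061305030200100f08071715141204110d0c0916020f0c0a071405040100110e09061716131203100d0b081506130b0a010e120807001514030217100f0509160d0c041103100b0d0815050104000e11060917131612020f0a0c071407140c0a020f120906001613040117110e0508150d0b031004110c0d0916050203000f10070817141512010e0a0b061308150b0d03101206090013160104170e110507140a0c020f05110f100e17040203010c0d0a0b161415130009070806120a140f07020c130e060117120500161109040b151008030d09160c0d04111207080014150203170f100506130a0b010e0b150810030d13060e0112170005160911040a14070f020c121614151317090708060c0d0a0b110f100e0004020301050d161109040c1510080317120500140f07020b130e06010a0e170f100511130a0b0114150203160c0d040612070800090c160911040d14070f0212170005150810030a13060e010b1317141512160e0a0b060f100708110c0d090105020300041017110e050f150d0b0316130401140c0a020812090600070f170e110510140a0c0213160104150b0d03071206090008151716131214100d0b08110e09060f0c0a070305040100021417131612150f0a0c070e110609100b0d080205010400031117100f050e160d0c0415140302130b0a01091208070006161715141213110d0c09100f08070e0b0a0604050302000117161514131211100f0e0d0c0b0a09080706050403020100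
  tr := 0x1b1a16181513171416111b121210181611161a10140d0e1513150f0d0d140c131a1b110b180a121b101209110818101a1a1b070f180e061b05060d070c18051a03040b0902090a040902080301071b0607011a0506051801040300021b1a0118
  par := 0x1160213021102100010020d000d010c000b020a01090308010701060305010503030302020203010201000101000000
  inv := 0x10403070b020605090a080c0e0d1012140f1113151617
  Bm := 0x43000
  pl := [1, 1, 3, 3, 4, 4, 3, 3, 1, 1]

theorem pstepD4_0_c1 : pstepD4_0.chk1 24 = true := by decide +kernel
theorem pstepD4_0_c2 : pstepD4_0.chk2 24 4 reflTD4 = true := by decide +kernel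
theorem pstepD4_0_c3 : pstepD4_0.chk3 4 = true := by decide +kernel
theorem pstepD4_0_c4 : pstepD4_0.chk4 24 = true := by decide +kernel
theorem pstepD4_0_c5 : pstepD4_0.chk5 24 4 reflTD4 = true := by decide +kernel
theorem pstepD4_0_c7 : pstepD4_0.chk7 24 = true := by decide +kernel
theorem pstepD4_0_c8 : pstepD4_0.chk8 24 = true := by decide +kernel
theorem pstepD4_0_ok : StepOK pstepD4_0 24 4 reflTD4 := ⟨pstepD4_0_c1, pstepD4_0_c2, pstepD4_0_c3, pstepD4_0_c4, pstepD4_0_c5, pstepD4_0_c7, pstepD4_0_c8⟩

def pstepD4_1 : PStep where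
  m := 2
  K := 13
  J := 12
  β := 18
  X := 0x1711100f0e05161514130d0c0b0a0403020112090807060017161514131211100f0e0d0c0b0a09080706050403020100
  tr := 0x504000005040001
  par := 0x0
  inv := 0x10000000000
  Bm := 0x3000
  pl := [1, 1]

theorem pstepD4_1_c1 : pstepD4_1.chk1 24 = true := by decide +kernel
theorem pstepD4_1_c2 : pstepD4_1.chk2 24 4 reflTD4 = true := by decide +kernel
theorem pstepD4_1_c3 : pstepD4_1.chk3 4 = true := by decide +kernel
theorem pstepD4_1_c4 : pstepD4_1.chk4 24 = true := by decide +kernel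
theorem pstepD4_1_c5 : pstepD4_1.chk5 24 4 reflTD4 = true := by decide +kernel
theorem pstepD4_1_c7 : pstepD4_1.chk7 24 = true := by decide +kernel
theorem pstepD4_1_c8 : pstepD4_1.chk8 24 = true := by decide +kernel
theorem pstepD4_1_ok : StepOK pstepD4_1 24 4 reflTD4 := ⟨pstepD4_1_c1, pstepD4_1_c2, pstepD4_1_c3, pstepD4_1_c4, pstepD4_1_c5, pstepD4_1_c7, pstepD4_1_c8⟩

def pstepD4_2 : PStep where
  m := 2
  K := 12
  J := 8
  β := 13
  X := 0x1714131615120f0e11100a0c0b0d0706090805020104030017161514131211100f0e0d0c0b0a09080706050403020100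
  tr := 0x500000005010000
  par := 0x2000000
  inv := 0x100000000000000000000
  Bm := 0x1000
  pl := [1, 1]

theorem pstepD4_2_c1 : pstepD4_2.chk1 24 = true := by decide +kernel
theorem pstepD4_2_c2 : pstepD4_2.chk2 24 4 reflTD4 = true := by decide +kernel
theorem pstepD4_2_c3 : pstepD4_2.chk3 4 = true := by decide +kernel
theorem pstepD4_2_c4 : pstepD4_2.chk4 24 = true := by decide +kernel
theorem pstepD4_2_c5 : pstepD4_2.chk5 24 4 reflTD4 = true := by decide +kernel
theorem pstepD4_2_c7 : pstepD4_2.chk7 24 = true := by decide +kernel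
theorem pstepD4_2_c8 : pstepD4_2.chk8 24 = true := by decide +kernel
theorem pstepD4_2_ok : StepOK pstepD4_2 24 4 reflTD4 := ⟨pstepD4_2_c1, pstepD4_2_c2, pstepD4_2_c3, pstepD4_2_c4, pstepD4_2_c5, pstepD4_2_c7, pstepD4_2_c8⟩

def pstepD4_3 : PStep where
  m := 2
  K := 8
  J := 0
  β := 2
  X := 0x17151613141210110e0f0d0b0c0a0809060705030401020017161514131211100f0e0d0c0b0a09080706050403020100
  tr := 0x1000000
  par := 0x3000000
  inv := 0x100
  Bm := 0x0
  pl := [1, 1]

theorem pstepD4_3_c1 : pstepD4_3.chk1 24 = true := by decide +kernel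
theorem pstepD4_3_c2 : pstepD4_3.chk2 24 4 reflTD4 = true := by decide +kernel
theorem pstepD4_3_c3 : pstepD4_3.chk3 4 = true := by decide +kernel
theorem pstepD4_3_c4 : pstepD4_3.chk4 24 = true := by decide +kernel
theorem pstepD4_3_c5 : pstepD4_3.chk5 24 4 reflTD4 = true := by decide +kernel
theorem pstepD4_3_c7 : pstepD4_3.chk7 24 = true := by decide +kernel
theorem pstepD4_3_c8 : pstepD4_3.chk8 24 = true := by decide +kernel
theorem pstepD4_3_ok : StepOK pstepD4_3 24 4 reflTD4 := ⟨pstepD4_3_c1, pstepD4_3_c2, pstepD4_3_c3, pstepD4_3_c4, pstepD4_3_c5, pstepD4_3_c7, pstepD4_3_c8⟩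

theorem chainD4 : PChain 24 4 reflTD4 15 [pstepD4_0, pstepD4_1, pstepD4_2, pstepD4_3] :=
  (PChain.cons _ _ pstepD4_0_ok (PChain.cons _ _ pstepD4_1_ok (PChain.cons _ _ pstepD4_2_ok (PChain.cons _ _ pstepD4_3_ok PChain.nil))))

open Classical in
/-- The Poincaré series of the Weyl group of type D4. -/
theorem poincareD4 (q : ℕ) :
    ∑ w ∈ univ.filter (fun w => w ∈ weylPerm tabD4), q ^ len chevD4 w =
      ([2, 4, 4, 6].map fun d => ∑ i ∈ range d, q ^ i).prod :=
  poincare_of_chain tabD4 agreeD4 15 _ chainD4 (by decide) _ (by decide +kernel) q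

end Cfsg.Agent.Lib.Helper36
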