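import Cfsg.Prelude.Def_ChevB2
import Cfsg.Agent.Lib.Helper36.ChevAgree

/-! Packed tables of type B2 (generated from the official tables) and their agreement check. -/

set_option autoImplicit false

namespace Cfsg.Agent.Lib.Helper36

open Cfsg.Lie

def fastB2 : Fast where
  l := 2
  n := 8
  dim := 10
  w := 24
  mask := 16777215
  rw := 240
  rmask := 0xffffffffffffffffffffffffffffffffffffffffffffffffffffffffffff
  negT := 0x40403020140c07
  corT := 0x2242022030035333
  colT := 0x607000406000200000000000005000000000000000a08000000408606000805000200405403000003000000000000000808000000608607000000000200000804604602000002000005000000000000000407000000000200000000000603000000000005000004000000000406000000000200000000000602000000000000000004000005605407000a05000200000000601402000000000a01000000000003000004404606000200000a04401403000000000801000000000000000002000000000200000603000402000000000000000000000000000000000000000004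

theorem agreeB2_0 : allN (fun i => agreeRow chevB2 fastB2 (Nat.add (Nat.mul 0 8) i)) 8 = true := by decide +kernel

theorem agreeB2 : Agree chevB2 fastB2 := by
  apply agree_of_rows _ _ rfl rfl
  apply of_chunks (agreeRow chevB2 fastB2) 8 1
  intro k hk
  interval_cases k
  · exact agreeB2_0

end Cfsg.Agent.Lib.Helper36
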